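import Groth.Prelude.Def_MoreMor
import Groth.Agent.Lib.TopDimLib.Basic
import Mathlib.AlgebraicGeometry.Noetherian
import Mathlib.AlgebraicGeometry.Limits

/-!
# Affine stratifications: existence
-/

universe u

open CategoryTheory AlgebraicGeometry Limits TopologicalSpace

set_option backward.isDefEq.respectTransparency.types false

namespace Groth.Agent.AffStrat4

variable {X : Scheme.{u}}

/-- A closed subset of an affine open which meets every member of an affine open cover in nothing
or in everything is the image of an affine immersion. -/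
theorem exists_affine_immersion {W : X.Opens} (hW : IsAffineOpen W) (L : Set X) (hLW : L ⊆ W)
    (hLc : IsClosed (W.ι ⁻¹' L))
    (hcov : ∀ x : X, ∃ V : X.Opens, x ∈ V ∧ IsAffineOpen V ∧ (L ⊆ V ∨ Disjoint L (V : Set X))) :
    ∃ (Z : Scheme.{u}) (ι : Z ⟶ X), IsImmersion ι ∧ IsAffine Z ∧ IsAffineHom ι ∧ Set.range ι = L := by
  haveI : IsAffine W.toScheme := hW
  let I := Scheme.IdealSheafData.vanishingIdeal (⟨_, hLc⟩ : Closeds W.toScheme)
  haveI : IsAffine I.subscheme := isAffine_of_isAffineHom I.subschemeι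
  have hr : Set.range (I.subschemeι ≫ W.ι) = L := by
    rw [Scheme.Hom.comp_base, TopCat.coe_comp, Set.range_comp, Scheme.IdealSheafData.range_subschemeι,
      Scheme.IdealSheafData.coe_support_vanishingIdeal]
    change W.ι '' (W.ι ⁻¹' L) = L
    rw [Set.image_preimage_eq_inter_range, W.range_ι, Set.inter_eq_left.2 hLW]
  refine ⟨I.subscheme, I.subschemeι ≫ W.ι, inferInstance, inferInstance,
    isAffineHom_of_forall_exists_isAffineOpen _ fun x => ?_, hr⟩
  obtain ⟨V, hxV, hV, h⟩ := hcov x
  refine ⟨V, hxV, hV, ?_⟩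
  rcases h with h | h
  · rw [show (I.subschemeι ≫ W.ι) ⁻¹ᵁ V = ⊤ from
      top_le_iff.1 fun z _ => h (hr.le ⟨z, rfl⟩)]
    exact isAffineOpen_top _
  · rw [show (I.subschemeι ≫ W.ι) ⁻¹ᵁ V = ⊥ from
      le_bot_iff.1 fun z hz => Set.disjoint_left.1 h (hr.le ⟨z, rfl⟩) hz]
    exact isAffineOpen_bot _

/-- Levels of a rank function make a stratification by closed sublevels. -/
theorem isClosed_sublevel {N : ℕ} (s : X → Fin (N + 1))
    (h : ∀ x, ∃ W : X.Opens, x ∈ W ∧ ∀ y ∈ W, s x ≤ s y) (i : Fin (N + 1)) :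
    IsClosed {x : X | s x ≤ i} := by
  rw [← isOpen_compl_iff, isOpen_iff_forall_mem_open]
  intro x hx
  obtain ⟨W, hxW, hW⟩ := h x
  exact ⟨W, fun y hy hy' => hx ((hW y hy).trans hy'), W.2, hxW⟩

/-- Quasi-compact quasi-separated schemes have a finite affine stratification. -/
theorem exists_of_qcqs [CompactSpace X] [QuasiSeparatedSpace X] :
    ∃ n : ℕ, MoreMor.HasAffineStratification X n := by
  classical
  let 𝒰 := X.affineCover.finiteSubcover
  let I := 𝒰.I₀
  haveI : Fintype I := Fintype.ofFinite _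
  let V : I → X.Opens := fun j => (𝒰.f j).opensRange
  have hV : ∀ j, IsAffineOpen (V j) := fun j => isAffineOpen_opensRange (𝒰.f j)
  have hcov : ∀ x : X, ∃ j, x ∈ V j := fun x => ⟨𝒰.idx x, 𝒰.covers x⟩
  let J : X → Finset I := fun x => Finset.univ.filter fun j => x ∈ V j
  have hJne : ∀ x, (J x).Nonempty := fun x => by
    obtain ⟨j, hj⟩ := hcov x
    exact ⟨j, Finset.mem_filter.2 ⟨Finset.mem_univ _, hj⟩⟩
  let VJ : Finset I → X.Opens := fun A => A.inf V
  have hmemVJ : ∀ (A : Finset I) (x : X), x ∈ VJ A ↔ ∀ j ∈ A, x ∈ V j := fun A x => by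
    induction A using Finset.induction with
    | empty => simp [VJ]
    | insert a A ha ih =>
      show x ∈ (insert a A).inf V ↔ _
      rw [Finset.inf_insert, Finset.forall_mem_insert, ← ih]
      rfl
  -- affine opens covering the intersections
  have hfin : ∀ A : Finset I, A.Nonempty → ∃ s : Finset X.affineOpens,
      (VJ A : Set X) = ⋃ W ∈ s, ((W : X.Opens) : Set X) := by
    intro A hA
    have hc : IsCompact (VJ A : Set X) := by
      induction hA using Finset.Nonempty.cons_induction with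
      | singleton a => simpa [VJ] using (hV a).isCompact
      | cons a A ha hA ih =>
        show IsCompact (((A.cons a ha).inf V : X.Opens) : Set X)
        rw [Finset.inf_cons]
        exact QuasiSeparatedSpace.inter_isCompact _ _ (V a).2 (hV a).isCompact (VJ A).2 ih
    obtain ⟨s, hs⟩ := (isCompact_and_isOpen_iff_finite_and_eq_biUnion_affineOpens).1 ⟨hc, (VJ A).2⟩
    exact ⟨hs.1.toFinset, by simpa using hs.2⟩
  choose Sfin hSfin using hfin
  let L : ∀ A : Finset I, A.Nonempty → List X.affineOpens := fun A hA => (Sfin A hA).toList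
  have hex : ∀ x, ∃ k, ∃ hk : k < (L (J x) (hJne x)).length, x ∈ ((L (J x) (hJne x))[k] : X.Opens) := fun x => by
    have : x ∈ (VJ (J x) : Set X) := (hmemVJ _ x).2 fun j hj => (Finset.mem_filter.1 hj).2
    rw [hSfin (J x) (hJne x)] at this
    obtain ⟨W, hW, hxW⟩ := Set.mem_iUnion₂.1 this
    obtain ⟨k, hk, hkW⟩ := List.getElem_of_mem (Finset.mem_toList.2 hW : W ∈ L (J x) (hJne x))
    refine ⟨k, hk, ?_⟩
    rw [hkW]
    exact hxW
  let idx : X → ℕ := fun x => Nat.find (hex x)
  have hidx : ∀ x, idx x < (L (J x) (hJne x)).length := fun x => (Nat.find_spec (hex x)).1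
  have hmemidx : ∀ x, x ∈ ((L (J x) (hJne x))[idx x]'(hidx x) : X.Opens) := fun x => (Nat.find_spec (hex x)).2
  -- bounds
  let R : ℕ := Finset.univ.sup fun A : Finset I => if h : A.Nonempty then (L A h).length else 0
  let e := Fintype.equivFin (Finset I)
  let M := Fintype.card (Finset I)
  let m := Fintype.card I
  let key : X → ℕ := fun x => ((J x).card * M + e (J x)) * (R + 1) + (R - idx x)
  have hR : ∀ x, idx x ≤ R := fun x => by
    refine (hidx x).le.trans ?_
    have := Finset.le_sup (f := fun A : Finset I => if h : A.Nonempty then (L A h).length else 0)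
      (Finset.mem_univ (J x))
    simpa [dif_pos (hJne x), R] using this
  let N : ℕ := (m * M + M) * (R + 1) + R
  have hkey : ∀ x, key x < N + 1 := fun x => by
    have h1 : (J x).card ≤ m := Finset.card_le_univ _
    have h2 : (e (J x) : ℕ) ≤ M := (e (J x)).2.le
    have h3 : ((J x).card * M + e (J x)) * (R + 1) ≤ (m * M + M) * (R + 1) :=
      Nat.mul_le_mul_right _ (Nat.add_le_add (Nat.mul_le_mul_right _ h1) h2)
    have h4 : R - idx x ≤ R := Nat.sub_le _ _
    simp only [key, N]
    omega
  let s : X → Fin (N + 1) := fun x => ⟨key x, hkey x⟩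
  have hW : ∀ x, ∃ W : X.Opens, x ∈ W ∧ IsAffineOpen W ∧ W ≤ VJ (J x) ∧
      (∀ y ∈ W, J y = J x → idx y ≤ idx x) ∧
      ∀ y ∈ ((L (J x) (hJne x))[idx x]'(hidx x) : X.Opens), y ∈ W := fun x => by
    let W := (L (J x) (hJne x))[idx x]'(hidx x)
    have hxW : x ∈ (W : X.Opens) := hmemidx x
    refine ⟨W, hxW, W.2, fun y hy => ?_, fun y hy hyJ => ?_, fun y hy => hy⟩
    · show y ∈ (VJ (J x) : Set X)
      rw [hSfin (J x) (hJne x)]
      exact Set.mem_iUnion₂.2 ⟨W, Finset.mem_toList.1 (List.getElem_mem _), hy⟩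
    · have hgen : ∀ (A : Finset I) (hA : A.Nonempty) (k : ℕ) (hk : k < (L A hA).length),
          y ∈ ((L A hA)[k] : X.Opens) → J y = A → idx y ≤ k := by
        rintro A hA k hk hy' rfl
        exact Nat.find_min' _ ⟨hk, hy'⟩
      exact hgen _ (hJne x) _ (hidx x) hy hyJ
  choose W hxW hWaff hWle hWidx hWeq using hW
  have hmono : ∀ x, ∀ y ∈ W x, s x ≤ s y := by
    intro x y hy
    have hsub : J x ⊆ J y := fun j hj =>
      Finset.mem_filter.2 ⟨Finset.mem_univ _, (hmemVJ _ y).1 (hWle x hy) j hj⟩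
    show key x ≤ key y
    rcases hsub.eq_or_ssubset with h | h
    · have := hWidx x y hy h.symm
      simp only [key, h]
      omega
    · have h1 := Finset.card_lt_card h
      have h2 : (e (J x) : ℕ) < M := (e (J x)).2
      have h4 : (J x).card * M + e (J x) + 1 ≤ (J y).card * M + e (J y) := by
        have := Nat.mul_le_mul_right M (Nat.succ_le_of_lt h1)
        rw [Nat.succ_mul] at this
        omega
      have h5 := Nat.mul_le_mul_right (R + 1) h4
      rw [Nat.add_mul, Nat.one_mul] at h5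
      simp only [key]
      omega
  refine ⟨N, s, isClosed_sublevel s fun x => ⟨W x, hxW x, hmono x⟩, fun i => ?_⟩
  by_cases hi : ∃ x, s x = i
  · obtain ⟨x, rfl⟩ := hi
    have hdec : ∀ y, s y = s x → J y = J x ∧ idx y = idx x := fun y hy => by
      have h : key y = key x := congrArg Fin.val hy
      simp only [key] at h
      have hb : ∀ R a b c d : ℕ, c ≤ R → d ≤ R → a * (R + 1) + c = b * (R + 1) + d → a = b ∧ c = d := by
        intro R a b c d hc hd he
        have h1 := congrArg (· % (R + 1)) he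
        simp only [Nat.mul_add_mod_self_right, Nat.mod_eq_of_lt (Nat.lt_succ_of_le hc),
          Nat.mod_eq_of_lt (Nat.lt_succ_of_le hd)] at h1
        subst h1
        exact ⟨Nat.eq_of_mul_eq_mul_right (Nat.succ_pos R) (Nat.add_right_cancel he), rfl⟩
      obtain ⟨h1, h2⟩ := hb R _ _ _ _ (Nat.sub_le _ _) (Nat.sub_le _ _) h
      have hM : M - 1 + 1 = M := Nat.sub_add_cancel (e (J x)).pos
      have he1 : (e (J y) : ℕ) ≤ M - 1 := Nat.le_sub_one_of_lt (e (J y)).2
      have he2 : (e (J x) : ℕ) ≤ M - 1 := Nat.le_sub_one_of_lt (e (J x)).2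
      obtain ⟨-, h3⟩ := hb (M - 1) _ _ _ _ he1 he2 (by rw [hM]; exact h1)
      exact ⟨e.injective (Fin.ext h3), by have := hR x; have := hR y; omega⟩
    have hinW : ∀ y, s y = s x → y ∈ W x := fun y hy => by
      obtain ⟨hJ, hidx'⟩ := hdec y hy
      have hgen : ∀ (A B : Finset I) (hA : A.Nonempty) (hB : B.Nonempty) (a b : ℕ) (ha : a < (L A hA).length)
          (hb : b < (L B hB).length), A = B → a = b → ((L A hA)[a] : X.Opens) = ((L B hB)[b] : X.Opens) := by
        rintro A B hA hB a b ha hb rfl rfl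
        rfl
      have hy' : y ∈ ((L (J y) (hJne y))[idx y]'(hidx y) : X.Opens) :=
        hmemidx y
      rw [hgen _ _ (hJne y) (hJne x) _ _ (hidx y) (hidx x) hJ hidx'] at hy'
      exact hWeq x y hy'
    refine exists_affine_immersion (hWaff x) {y | s y = s x} hinW ?_ fun z => ?_
    · have h1 : (W x).ι ⁻¹' {y | s y = s x} = (W x).ι ⁻¹' {y | s y ≤ s x} :=
        Set.ext fun y => ⟨fun h => le_of_eq h, fun h => le_antisymm h (hmono x _ y.2)⟩
      rw [h1]
      exact (isClosed_sublevel s (fun x => ⟨W x, hxW x, hmono x⟩) _).preimage (W x).ι.continuous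
    · obtain ⟨j, hj⟩ := hcov z
      refine ⟨V j, hj, hV j, ?_⟩
      by_cases hjx : x ∈ V j
      · left
        intro y hy
        have : j ∈ J y := (hdec y hy).1 ▸ Finset.mem_filter.2 ⟨Finset.mem_univ _, hjx⟩
        exact (Finset.mem_filter.1 this).2
      · right
        rw [Set.disjoint_left]
        intro y hy hyj
        have : j ∈ J x := (hdec y hy).1 ▸ Finset.mem_filter.2 ⟨Finset.mem_univ _, hyj⟩
        exact hjx (Finset.mem_filter.1 this).2
  · refine exists_affine_immersion (W := ⊥) (isAffineOpen_bot _) {y | s y = i} ?_ ?_ fun z => ?_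
    · exact fun y hy => absurd ⟨y, hy⟩ hi
    · rw [show ({y | s y = i} : Set X) = ∅ from Set.eq_empty_of_forall_notMem fun y hy => hi ⟨y, hy⟩]
      simp
    · obtain ⟨j, hj⟩ := hcov z
      exact ⟨V j, hj, hV j, Or.inl fun y hy => absurd ⟨y, hy⟩ hi⟩

/-- A scheme with an affine stratification is quasi-compact and quasi-separated. -/
theorem qcqs_of {n : ℕ} (h : MoreMor.HasAffineStratification X n) :
    CompactSpace X ∧ QuasiSeparatedSpace X := by
  obtain ⟨s, -, hs⟩ := h
  choose Z ι hι hZ hιa hr using hs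
  haveI := hZ; haveI := hιa
  constructor
  · refine ⟨?_⟩
    have : (Set.univ : Set X) = ⋃ i, Set.range (ι i) := by
      symm
      refine Set.eq_univ_of_forall fun x => Set.mem_iUnion.2 ⟨s x, ?_⟩
      rw [hr]
      rfl
    rw [this]
    exact isCompact_iUnion fun i => isCompact_range (ι i).continuous
  · refine ⟨fun U V hU hUc hV hVc => ?_⟩
    have : U ∩ V = ⋃ i, ι i '' (ι i ⁻¹' U ∩ ι i ⁻¹' V) := by
      ext x
      constructor
      · rintro hx
        obtain ⟨z, hz⟩ := (hr (s x)).ge (show x ∈ {y | s y = s x} from rfl)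
        exact Set.mem_iUnion.2 ⟨s x, z, ⟨show ι (s x) z ∈ U by rw [hz]; exact hx.1, show ι (s x) z ∈ V by rw [hz]; exact hx.2⟩, hz⟩
      · rintro hx
        obtain ⟨i, z, hz, rfl⟩ := Set.mem_iUnion.1 hx
        exact hz
    rw [this]
    refine isCompact_iUnion fun i => IsCompact.image ?_ (ι i).continuous
    exact QuasiSeparatedSpace.inter_isCompact _ _ (hU.preimage (ι i).continuous)
      ((ι i).isCompact_preimage (U := ⟨U, hU⟩) hUc) (hV.preimage (ι i).continuous)
      ((ι i).isCompact_preimage (U := ⟨V, hV⟩) hVc)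

end Groth.Agent.AffStrat4
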