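import Groth.Agent.Lib.AffStrat4.Basic

/-!
# Affine stratifications of Noetherian schemes by dimension
-/

universe u

open CategoryTheory AlgebraicGeometry Limits TopologicalSpace

set_option backward.isDefEq.respectTransparency.types false

namespace Groth.Agent.AffStrat4

theorem hasAffineStratification_of_isEmpty (X : Scheme.{u}) [IsEmpty X] (n : ℕ) :
    MoreMor.HasAffineStratification X n :=
  ⟨fun _ => 0, fun i => by rw [Set.eq_empty_of_isEmpty {x : X | (0 : Fin (n + 1)) ≤ i}]; exact isClosed_empty,
    fun i => by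
      obtain ⟨Z, ι, h⟩ := exists_affine_immersion (X := X) (W := ⊥) (isAffineOpen_bot X) ∅
        (Set.empty_subset _) (by simp) (fun x => isEmptyElim x)
      exact ⟨Z, ι, h.1, h.2.1, h.2.2.1, h.2.2.2.trans (Set.eq_empty_of_isEmpty _).symm⟩⟩

/-- A dense affine open with affine inclusion. -/
theorem exists_dense_affine (X : Scheme.{u}) [IsNoetherian X] :
    ∃ U : X.Opens, IsAffineOpen U ∧ IsAffineHom U.ι ∧
      ∀ C ∈ irreducibleComponents X, ¬ Disjoint C (U : Set X) := by
  classical
  let 𝒰 := X.affineCover.finiteSubcover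
  let I := 𝒰.I₀
  let V : I → X.Opens := fun j => (𝒰.f j).opensRange
  have hV : ∀ j, IsAffineOpen (V j) := fun j => isAffineOpen_opensRange (𝒰.f j)
  have hfin : (irreducibleComponents X).Finite := NoetherianSpace.finite_irreducibleComponents
  haveI := hfin.to_subtype
  let C := {C : Set X // C ∈ irreducibleComponents X}
  have hex : ∀ c : C, ∃ A : X.Opens, IsAffineOpen A ∧ (A : Set X).Nonempty ∧ (A : Set X) ⊆ c.1 ∧
      (∀ d : C, d ≠ c → Disjoint d.1 (A : Set X)) ∧
      ∀ j, (A : Set X) ⊆ V j ∨ Disjoint (A : Set X) (V j) := by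
    intro c
    haveI := c.2.1.1
    let others : Set X := ⋃ d : {d : C // d ≠ c}, d.1.1
    have hoc : IsClosed others :=
      isClosed_iUnion_of_finite fun d => isClosed_of_mem_irreducibleComponents _ d.1.2
    obtain ⟨η, hη⟩ := QuasiSober.sober c.2.1 (isClosed_of_mem_irreducibleComponents _ c.2)
    have hηo : η ∉ others := by
      intro h
      obtain ⟨d, hd⟩ := Set.mem_iUnion.1 h
      have hcd : c.1 ⊆ d.1.1 := hη.def ▸ closure_minimal (Set.singleton_subset_iff.2 hd)
        (isClosed_of_mem_irreducibleComponents _ d.1.2)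
      exact d.2 (Subtype.ext ((c.2.eq_of_subset d.1.2.1 hcd).symm))
    let O : X.Opens := ⟨othersᶜ, hoc.isOpen_compl⟩ ⊓ ⨅ j : {j : I // η ∈ V j}, V j.1
    have hηO : η ∈ (O : Set X) := by
      refine ⟨hηo, ?_⟩
      rw [Opens.coe_iInf]
      exact Set.mem_iInter.2 fun j => j.2
    obtain ⟨A, hA, hηA, hAO⟩ := exists_isAffineOpen_mem_and_subset (X := X) (x := η) (U := O) hηO
    have hsub : (A : Set X) ⊆ c.1 := fun a ha => by
      have hmem := mem_irreducibleComponent (x := a)
      by_contra hac
      refine (hAO ha).1 (Set.mem_iUnion.2 ⟨⟨⟨_, irreducibleComponent_mem_irreducibleComponents a⟩, fun h => ?_⟩, hmem⟩)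
      exact hac ((congrArg Subtype.val h) ▸ hmem)
    refine ⟨A, hA, ⟨η, hηA⟩, hsub, fun d hd => Set.disjoint_left.2 fun a had haA =>
      (hAO haA).1 (Set.mem_iUnion.2 ⟨⟨d, hd⟩, had⟩), fun j => ?_⟩
    by_cases hj : η ∈ V j
    · left
      intro a ha
      have := (hAO ha).2
      rw [Opens.coe_iInf] at this
      exact Set.mem_iInter.1 this ⟨j, hj⟩
    · right
      refine Set.disjoint_left.2 fun a ha haj => hj ?_
      have : η ⤳ a := by
        rw [specializes_iff_mem_closure, hη.def]
        exact hsub ha
      exact this.mem_open (V j).2 haj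
  choose A hA hne hAc hAd hAV using hex
  have hdisj : Pairwise (Function.onFun Disjoint A) := by
    intro c d hcd
    rw [Function.onFun, disjoint_iff_inf_le]
    intro a ha
    exact (Set.disjoint_left.1 (hAd d c hcd) (hAc c ha.1) ha.2).elim
  refine ⟨⨆ c, A c, IsAffineOpen.iSup_of_disjoint hA hdisj, ?_, fun c hc hd => ?_⟩
  · refine isAffineHom_of_forall_exists_isAffineOpen _ fun x => ⟨V (𝒰.idx x), 𝒰.covers x, hV _, ?_⟩
    let j := 𝒰.idx x
    have he : (⨆ c, A c) ⊓ V j = ⨆ c : {c : C // (A c : Set X) ⊆ V j}, A c.1 := by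
      refine le_antisymm (fun a ha => ?_) (iSup_le fun c => le_inf (le_iSup A c.1) c.2)
      obtain ⟨c, hc⟩ := Opens.mem_iSup.1 ha.1
      rcases hAV c j with h | h
      · exact Opens.mem_iSup.2 ⟨⟨c, h⟩, hc⟩
      · exact (Set.disjoint_left.1 h hc ha.2).elim
    have hIm : IsAffineOpen ((⨆ c, A c).ι ''ᵁ ((⨆ c, A c).ι ⁻¹ᵁ V j)) := by
      rw [Scheme.Hom.image_preimage_eq_opensRange_inf, Scheme.Opens.opensRange_ι, he]
      exact IsAffineOpen.iSup_of_disjoint (fun c => hA c.1) fun c d hcd => hdisj (fun h => hcd (Subtype.ext h))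
    exact (Scheme.Hom.isAffineOpen_iff_of_isOpenImmersion _).1 hIm
  · obtain ⟨a, ha⟩ := hne ⟨c, hc⟩
    exact Set.disjoint_left.1 hd (hAc ⟨c, hc⟩ ha) (Opens.mem_iSup.2 ⟨⟨c, hc⟩, ha⟩)

/-- A closed subset containing no component has smaller dimension. -/
theorem dim_le_of_no_component {T : Type*} [TopologicalSpace T] {Y : Set T} (hY : IsClosed Y)
    (hc : ∀ C ∈ irreducibleComponents T, ¬ C ⊆ Y) {n : ℕ}
    (hd : topologicalKrullDim T ≤ (n + 1 : ℕ)) : topologicalKrullDim Y ≤ n := by
  refine TopDimLib.dim_le fun p => ?_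
  let m := p.map (IrreducibleCloseds.map (Subtype.val : Y → T) continuous_subtype_val)
    (IrreducibleCloseds.map_strictMono_of_isInducing Topology.IsInducing.subtypeVal)
  have hsub : (m.last : Set T) ⊆ Y := by
    simp only [m, LTSeries.last_map]
    exact closure_minimal (Subtype.coe_image_subset _ _) hY
  obtain ⟨C, hC, hmC, hmax⟩ := exists_preirreducible (m.last : Set T) m.last.isIrreducible.isPreirreducible
  have hCc : C ∈ irreducibleComponents T :=
    ⟨⟨m.last.isIrreducible.nonempty.mono hmC, hC⟩, fun u hu hCu => (hmax u hu.2 hCu).le⟩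
  let top : IrreducibleCloseds T := ⟨C, hCc.1, isClosed_of_mem_irreducibleComponents _ hCc⟩
  have hlt : m.last < top := by
    refine lt_of_le_of_ne hmC fun h => hc C hCc ?_
    have : (m.last : Set T) = C := congrArg (fun Z : IrreducibleCloseds T => (Z : Set T)) h
    exact this ▸ hsub
  have hq := (TopDimLib.length_le (m.snoc top hlt)).trans hd
  simp only [RelSeries.snoc_length, m, LTSeries.map_length] at hq
  have h2 : p.length + 1 ≤ n + 1 := by exact_mod_cast hq
  exact_mod_cast (Nat.succ_le_succ_iff.1 h2)

theorem hasAffineStratification_of_dim : ∀ (n : ℕ) (X : Scheme.{u}) [IsNoetherian X],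
    topologicalKrullDim X ≤ (n : ℕ) → MoreMor.HasAffineStratification X n := by
  intro n
  induction n with
  | zero =>
    intro X _ hd
    obtain ⟨U, hU, hUa, hUd⟩ := exists_dense_affine X
    have htop : (U : Set X) = Set.univ := by
      refine Set.eq_univ_of_forall fun x => ?_
      by_contra hx
      obtain ⟨C, hC, hxC⟩ : ∃ C ∈ irreducibleComponents X, x ∈ C :=
        ⟨_, irreducibleComponent_mem_irreducibleComponents x, mem_irreducibleComponent⟩
      obtain ⟨a, haC, haU⟩ := Set.not_disjoint_iff.1 (hUd C hC)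
      obtain ⟨η, hη⟩ := QuasiSober.sober hC.1 (isClosed_of_mem_irreducibleComponents _ hC)
      have hηU : η ∈ U := (specializes_iff_mem_closure.2 (hη.def ▸ haC)).mem_open U.2 haU
      have hne : η ≠ x := fun h => hx (h ▸ hηU)
      have hηx : η ⤳ x := specializes_iff_mem_closure.2 (hη.def ▸ hxC)
      let c₀ : IrreducibleCloseds X := ⟨closure {x}, isIrreducible_singleton.closure, isClosed_closure⟩
      let c₁ : IrreducibleCloseds X := ⟨C, hC.1, isClosed_of_mem_irreducibleComponents _ hC⟩
      have hlt : c₀ < c₁ := by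
        refine lt_of_le_of_ne (closure_minimal (Set.singleton_subset_iff.2 hxC)
          (isClosed_of_mem_irreducibleComponents _ hC)) fun h => hne ?_
        have h' : closure {x} = C := congrArg IrreducibleCloseds.carrier h
        exact (hηx.antisymm (specializes_iff_mem_closure.2
          (h'.symm ▸ hη.def ▸ subset_closure (Set.mem_singleton η)))).eq
      let p : LTSeries (IrreducibleCloseds X) := (RelSeries.singleton _ c₀).snoc c₁ hlt
      have := (TopDimLib.length_le p).trans hd
      simp only [p, RelSeries.snoc_length, RelSeries.singleton_length] at this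
      exact absurd this (by simp)
    refine ⟨fun _ => 0, fun i => by simp, fun i => ⟨U, U.ι, inferInstance, hU, hUa, ?_⟩⟩
    rw [U.range_ι, htop]
    ext x
    simp [Fin.fin_one_eq_zero i]
  | succ n ih =>
    intro X _ hd
    obtain ⟨U, hU, hUa, hUd⟩ := exists_dense_affine X
    let Y : Closeds X := ⟨(U : Set X)ᶜ, U.2.isClosed_compl⟩
    let I := Scheme.IdealSheafData.vanishingIdeal Y
    have hr : Set.range I.subschemeι = (U : Set X)ᶜ := by
      rw [Scheme.IdealSheafData.range_subschemeι, Scheme.IdealSheafData.coe_support_vanishingIdeal]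
      rfl
    haveI : IsLocallyNoetherian I.subscheme := LocallyOfFiniteType.isLocallyNoetherian I.subschemeι
    haveI : CompactSpace I.subscheme := I.subschemeι.isClosedEmbedding.compactSpace
    haveI : IsNoetherian I.subscheme := ⟨⟩
    have hdim : topologicalKrullDim I.subscheme ≤ n := by
      rw [IsHomeomorph.topologicalKrullDim_eq _ ((I.subschemeι.isEmbedding.toHomeomorph).trans
        (Homeomorph.setCongr hr)).isHomeomorph]
      exact dim_le_of_no_component U.2.isClosed_compl
        (fun C hC hsub => hUd C hC (Set.disjoint_left.2 fun a ha => hsub ha)) hd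
    obtain ⟨s, hs, hs'⟩ := ih I.subscheme hdim
    classical
    let j := I.subschemeι
    have hpre : ∀ x, x ∉ U → ∃ z, j z = x := fun x hx => hr.ge hx
    choose pre hpre using hpre
    let t : X → Fin (n + 1 + 1) := fun x => if h : x ∈ U then Fin.last _ else (s (pre x h)).castSucc
    have hjU : ∀ z, j z ∉ U := fun z => hr.le ⟨z, rfl⟩
    have htj : ∀ z, t (j z) = (s z).castSucc := fun z => by
      simp only [t, dif_neg (hjU z)]
      rw [j.isClosedEmbedding.injective (hpre (j z) (hjU z))]
    refine ⟨t, fun i => ?_, fun i => ?_⟩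
    · refine i.lastCases ?_ (fun k => ?_)
      · simp [Fin.le_last]
      · have : {x | t x ≤ k.castSucc} = j '' {z | s z ≤ k} := by
          ext x
          constructor
          · intro hx
            by_cases h : x ∈ U
            · simp only [t, dif_pos h, Set.mem_setOf_eq] at hx
              exact absurd hx (not_le.2 (Fin.castSucc_lt_last k))
            · refine ⟨pre x h, ?_, hpre x h⟩
              simp only [t, dif_neg h, Set.mem_setOf_eq, Fin.castSucc_le_castSucc_iff] at hx
              exact hx
          · rintro ⟨z, hz, rfl⟩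
            simp only [Set.mem_setOf_eq, htj]
            exact Fin.castSucc_le_castSucc_iff.2 hz
        rw [this]
        exact j.isClosedEmbedding.isClosedMap _ (hs k)
    · refine i.lastCases ?_ (fun k => ?_)
      · refine ⟨U, U.ι, inferInstance, hU, hUa, ?_⟩
        rw [U.range_ι]
        ext x
        by_cases h : x ∈ U
        · simp [t, h]
        · simp only [t, dif_neg h, Set.mem_setOf_eq, SetLike.mem_coe, h, false_iff]
          exact (Fin.castSucc_lt_last _).ne
      · obtain ⟨Z, ι, h1, h2, h3, h4⟩ := hs' k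
        refine ⟨Z, ι ≫ j, inferInstance, h2, inferInstance, ?_⟩
        rw [Scheme.Hom.comp_base, TopCat.coe_comp, Set.range_comp, h4]
        ext x
        constructor
        · rintro ⟨z, hz, rfl⟩
          exact (htj z).trans (congrArg Fin.castSucc hz)
        · intro hx
          by_cases h : x ∈ U
          · simp only [t, dif_pos h, Set.mem_setOf_eq] at hx
            exact absurd hx.symm (Fin.castSucc_lt_last k).ne
          · refine ⟨pre x h, ?_, hpre x h⟩
            simp only [t, dif_neg h, Set.mem_setOf_eq, Fin.castSucc_inj] at hx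
            exact hx

end Groth.Agent.AffStrat4
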